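import Groth.Agent.AdjLin.K680.LatCoc
import Groth.Agent.CurvesC.MVSec
import Groth.Agent.Fga.HShift

/-!
# Mayer-Vietoris for lattices; the modules `N ⊗ I` as lattices

Setting: `μ : Y ⟶ X` maps the generic point to the generic point, `X`, `Y` integral, `M` invertible on `X`, `N` invertible
on `Y`, `J` effective Cartier on `Y` and `N ⊗ J ≅ μ^* M` (for instance `ω_Y ⊗ Jac μ ≅ μ^* ω_X`).

* `exists_sub`: if `H^1(W, P) = 0`, `W = A ∪ B`, then `P(A ∩ B) = P(A) - P(B)` inside the function field.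
* `nonempty_iso_colon`: if `M` has a generator over `U`, then `N ⊗ I ≅ mod (colon I J)` over `μ⁻¹ U`
  (`colon I J = {f | f J ⊆ I}`); `nonempty_iso_div` with generators; `mv_local`.
* `nonempty_iso_global`: `N ⊗ μ^* L ⊗ I ≅ mod (lat (μ^* (m l) / j * i))`; `mv_global`.
-/

set_option autoImplicit false
universe u
open CategoryTheory CategoryTheory.Limits AlgebraicGeometry TopologicalSpace Opposite

namespace K680.Mv

open Groth.Agent Groth.Agent.Fdesc.LocGen Groth.Agent.Lefpen.H725.CocDef Groth.Agent.Lefpen.H521.CartierCoc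
open K577.Lat K577.LatIdeal K756.LatSh K475.GenStalk Groth.Agent.Divis.CartierBasic K680.LatCoc

section MV

variable {Y : Scheme.{u}} [IsIntegral Y]

theorem secs_bot (P : Fam Y) (f : Y.functionField) : f ∈ secs (⊥ : Y.Opens) P := fun y hy => absurd hy (by simp)

/-- **Mayer-Vietoris** for lattices: if `H^1(A ∪ B, P) = 0` then every section over `A ∩ B` is a difference. -/
theorem exists_sub {P : Fam Y} {W A B : Y.Opens} (hW : A ⊔ B = W)
    (h1 : Subsingleton (Coh.HH (W : Scheme.{u}) ((Scheme.Modules.restrictFunctor W.ι).obj (mod P)) 1))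
    {f : Y.functionField} (hf : f ∈ secs (A ⊓ B) P) : ∃ a ∈ secs A P, ∃ b ∈ secs B P, a - b = f := by
  by_cases hA : (A : Set Y).Nonempty
  swap
  · have : A = ⊥ := by
      ext z
      exact ⟨fun hz => absurd ⟨z, hz⟩ hA, fun hz => absurd hz (by simp)⟩
    subst this
    exact ⟨f, secs_bot P f, 0, (secs B P).zero_mem, sub_zero f⟩
  by_cases hB : (B : Set Y).Nonempty
  swap
  · have : B = ⊥ := by
      ext z
      exact ⟨fun hz => absurd ⟨z, hz⟩ hB, fun hz => absurd hz (by simp)⟩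
    subst this
    exact ⟨0, (secs A P).zero_mem, -f, secs_bot P _, by rw [zero_sub, neg_neg]⟩
  obtain ⟨a₀, ha₀⟩ := hA
  obtain ⟨b₀, hb₀⟩ := hB
  have hηA : genericPoint Y ∈ A := gen_mem ha₀
  have hηB : genericPoint Y ∈ B := gen_mem hb₀
  have hAW : A ≤ W := hW ▸ le_sup_left
  have hBW : B ≤ W := hW ▸ le_sup_right
  have himA : W.ι ''ᵁ (W.ι ⁻¹ᵁ A) = A := by
    rw [Scheme.Hom.image_preimage_eq_opensRange_inf, Scheme.Opens.opensRange_ι]
    exact inf_eq_right.mpr hAW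
  have himB : W.ι ''ᵁ (W.ι ⁻¹ᵁ B) = B := by
    rw [Scheme.Hom.image_preimage_eq_opensRange_inf, Scheme.Opens.opensRange_ι]
    exact inf_eq_right.mpr hBW
  have himAB : W.ι ''ᵁ (W.ι ⁻¹ᵁ A ⊓ W.ι ⁻¹ᵁ B) ≤ A ⊓ B := by
    rintro _ ⟨y, hy, rfl⟩
    exact hy
  have hcov : W.ι ⁻¹ᵁ A ⊔ W.ι ⁻¹ᵁ B = ⊤ := by
    rw [eq_top_iff]
    rintro y -
    have : W.ι y ∈ A ⊔ B := hW.symm ▸ y.2
    exact this
  obtain ⟨a, b, hab⟩ := CurvesC.MVSec.exists_sub ((Scheme.Modules.restrictFunctor W.ι).obj (mod P)) h1 hcov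
    (show Γ(mod P, W.ι ''ᵁ (W.ι ⁻¹ᵁ A ⊓ W.ι ⁻¹ᵁ B)) from mk _ f fun y hy => hf y (himAB hy))
  let a' : Γ(mod P, W.ι ''ᵁ (W.ι ⁻¹ᵁ A)) := a
  let b' : Γ(mod P, W.ι ''ᵁ (W.ι ⁻¹ᵁ B)) := b
  have hηA' : genericPoint Y ∈ W.ι ''ᵁ (W.ι ⁻¹ᵁ A) := himA.symm ▸ hηA
  have hηB' : genericPoint Y ∈ W.ι ''ᵁ (W.ι ⁻¹ᵁ B) := himB.symm ▸ hηB
  refine ⟨a'.1 ⟨genericPoint Y, hηA'⟩, fun y hy => ?_, b'.1 ⟨genericPoint Y, hηB'⟩, fun y hy => ?_, ?_⟩
  · rw [apply_eq a' ⟨genericPoint Y, hηA'⟩ ⟨y, himA.symm ▸ hy⟩]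
    exact apply_mem a' ⟨y, himA.symm ▸ hy⟩
  · rw [apply_eq b' ⟨genericPoint Y, hηB'⟩ ⟨y, himB.symm ▸ hy⟩]
    exact apply_mem b' ⟨y, himB.symm ▸ hy⟩
  · have hη3 : genericPoint Y ∈ W.ι ''ᵁ (W.ι ⁻¹ᵁ A ⊓ W.ι ⁻¹ᵁ B) :=
      ⟨⟨genericPoint Y, hAW hηA⟩, ⟨hηA, hηB⟩, rfl⟩
    exact congrArg (fun s : Γ(mod P, W.ι ''ᵁ (W.ι ⁻¹ᵁ A ⊓ W.ι ⁻¹ᵁ B)) => s.1 ⟨genericPoint Y, hη3⟩) hab

/-- **Mayer-Vietoris** for lattices on the whole scheme. -/
theorem exists_sub_top {P : Fam Y} {A B : Y.Opens} (hAB : A ⊔ B = ⊤)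
    (h1 : Subsingleton (Coh.HH Y (mod P) 1))
    {f : Y.functionField} (hf : f ∈ secs (A ⊓ B) P) : ∃ a ∈ secs A P, ∃ b ∈ secs B P, a - b = f := by
  by_cases hA : (A : Set Y).Nonempty
  swap
  · have : A = ⊥ := by
      ext z
      exact ⟨fun hz => absurd ⟨z, hz⟩ hA, fun hz => absurd hz (by simp)⟩
    subst this
    exact ⟨f, secs_bot P f, 0, (secs B P).zero_mem, sub_zero f⟩
  by_cases hB : (B : Set Y).Nonempty
  swap
  · have : B = ⊥ := by
      ext z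
      exact ⟨fun hz => absurd ⟨z, hz⟩ hB, fun hz => absurd hz (by simp)⟩
    subst this
    exact ⟨0, (secs A P).zero_mem, -f, secs_bot P _, by rw [zero_sub, neg_neg]⟩
  obtain ⟨a₀, ha₀⟩ := hA
  obtain ⟨b₀, hb₀⟩ := hB
  have hηA : genericPoint Y ∈ A := gen_mem ha₀
  have hηB : genericPoint Y ∈ B := gen_mem hb₀
  obtain ⟨a, b, hab⟩ := CurvesC.MVSec.exists_sub (mod P) h1 hAB (mk (A ⊓ B) f hf)
  refine ⟨a.1 ⟨genericPoint Y, hηA⟩, fun y hy => ?_, b.1 ⟨genericPoint Y, hηB⟩, fun y hy => ?_, ?_⟩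
  · rw [apply_eq a ⟨genericPoint Y, hηA⟩ ⟨y, hy⟩]
    exact apply_mem a ⟨y, hy⟩
  · rw [apply_eq b ⟨genericPoint Y, hηB⟩ ⟨y, hy⟩]
    exact apply_mem b ⟨y, hy⟩
  · exact congrArg (fun s : Γ(mod P, A ⊓ B) => s.1 ⟨genericPoint Y, ⟨hηA, hηB⟩⟩) hab

end MV

section adj

variable {X Y : Scheme.{u}} [IsIntegral X] [IsIntegral Y] (μ : Y ⟶ X) (hη : μ (genericPoint Y) = genericPoint X)
  {M : X.Modules} {N : Y.Modules} {I J : Y.IdealSheafData}

/-- The cocycle of `N ⊗ I`. -/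
theorem hasCoc_tensor_ideal (hN : PicF.IsInvertible N) (hI : BlowUp.IsEffCartierIdeal I)
    (hJ : BlowUp.IsEffCartierIdeal J)
    (e : Nonempty (CohB1.tensorMod N (ClSub.idealMod J) ≅ (Scheme.Modules.pullback μ).obj M))
    {m : X → (X.functionField)ˣ} (hm : HasCoc M (fun x => (m x : X.functionField)))
    {i j : Y → (Y.functionField)ˣ} (hi : K577.LatIdeal.IsGen I i) (hj : K577.LatIdeal.IsGen J j) :
    HasCoc (CohB1.tensorMod N (ClSub.idealMod I))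
      (fun y => ((pb μ hη m / j * i) y : Y.functionField)) :=
  hasCoc_mul (hasCoc_adj μ hη hN hJ e hm hj) (hasCoc_idealMod hI hi)

/-- The cocycle of `N ⊗ μ^* L ⊗ I`. -/
theorem hasCoc_tensor_pullback_ideal (hN : PicF.IsInvertible N) (hI : BlowUp.IsEffCartierIdeal I)
    (hJ : BlowUp.IsEffCartierIdeal J)
    (e : Nonempty (CohB1.tensorMod N (ClSub.idealMod J) ≅ (Scheme.Modules.pullback μ).obj M))
    {m : X → (X.functionField)ˣ} (hm : HasCoc M (fun x => (m x : X.functionField)))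
    {L : X.Modules} {l : X → (X.functionField)ˣ} (hl : HasCoc L (fun x => (l x : X.functionField)))
    {i j : Y → (Y.functionField)ˣ} (hi : K577.LatIdeal.IsGen I i) (hj : K577.LatIdeal.IsGen J j) :
    HasCoc (CohB1.tensorMod N (CohB1.tensorMod ((Scheme.Modules.pullback μ).obj L) (ClSub.idealMod I)))
      (fun y => ((pb μ hη (m * l) * (i / j)) y : Y.functionField)) := by
  have h1 := hasCoc_mul (hasCoc_adj μ hη hN hJ e hm hj) (hasCoc_mul (hasCoc_pb μ hη hl) (hasCoc_idealMod hI hi))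
  have h2 : pb μ hη (m * l) * (i / j) = pb μ hη m / j * (pb μ hη l * i) := by
    funext y
    have h3 : pb μ hη (m * l) y = pb μ hη m y * pb μ hη l y := by
      simp only [pb, Pi.mul_apply, map_mul]
    simp only [Pi.mul_apply, Pi.div_apply, h3]
    rw [mul_assoc, div_mul_eq_mul_div, mul_div_assoc, mul_div_assoc]
  rw [h2]
  exact h1

theorem nonempty_iso_global (hN : PicF.IsInvertible N) (hI : BlowUp.IsEffCartierIdeal I)
    (hJ : BlowUp.IsEffCartierIdeal J)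
    (e : Nonempty (CohB1.tensorMod N (ClSub.idealMod J) ≅ (Scheme.Modules.pullback μ).obj M))
    {m : X → (X.functionField)ˣ} (hm : HasCoc M (fun x => (m x : X.functionField)))
    {L : X.Modules} {l : X → (X.functionField)ˣ} (hl : HasCoc L (fun x => (l x : X.functionField)))
    {i j : Y → (Y.functionField)ˣ} (hi : K577.LatIdeal.IsGen I i) (hj : K577.LatIdeal.IsGen J j) :
    Nonempty (CohB1.tensorMod N (CohB1.tensorMod ((Scheme.Modules.pullback μ).obj L) (ClSub.idealMod I)) ≅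
      mod (lat (pb μ hη (m * l) * (i / j)))) :=
  nonempty_iso_lat (hasCoc_tensor_pullback_ideal μ hη hN hI hJ e hm hl hi hj)

include hη

/-- Over `μ⁻¹ U`, with `M` trivial over `U`, the module `N ⊗ I` is the lattice `i / j`. -/
theorem nonempty_iso_div (hM : PicF.IsInvertible M) (hN : PicF.IsInvertible N) (hI : BlowUp.IsEffCartierIdeal I)
    (hJ : BlowUp.IsEffCartierIdeal J)
    (e : Nonempty (CohB1.tensorMod N (ClSub.idealMod J) ≅ (Scheme.Modules.pullback μ).obj M))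
    {U : X.Opens} {t : Γ(M, U)} (ht : Groth.Agent.Fdesc.LocGen.IsGen t)
    {i j : Y → (Y.functionField)ˣ} (hi : K577.LatIdeal.IsGen I i) (hj : K577.LatIdeal.IsGen J j) :
    Nonempty ((CohB1.tensorMod N (ClSub.idealMod I)).restrict (μ ⁻¹ᵁ U).ι ≅
      (Scheme.Modules.restrictFunctor (μ ⁻¹ᵁ U).ι).obj (mod (lat (i / j)))) := by
  obtain ⟨m, hm, hmU⟩ := exists_coc_unitAt hM ht
  obtain ⟨φ⟩ := nonempty_iso_lat (hasCoc_tensor_ideal μ hη hN hI hJ e hm hi hj)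
  refine ⟨(Scheme.Modules.restrictFunctor (μ ⁻¹ᵁ U).ι).mapIso φ ≪≫ restrictIso (μ ⁻¹ᵁ U) fun y hy => ?_⟩
  refine lat_congr ?_
  have h1 : (pb μ hη m / j * i) y / (i / j) y = pb μ hη m y := by
    simp only [Pi.mul_apply, Pi.div_apply]
    rw [div_mul_eq_mul_div, mul_div_assoc, mul_div_cancel_right]
  rw [h1]
  exact pb_mem_unitR μ hη (hmU _ hy)

/-- Over `μ⁻¹ U`, with `M` trivial over `U`, the module `N ⊗ I` is the lattice `{f | f J ⊆ I}`. -/
theorem nonempty_iso_colon (hM : PicF.IsInvertible M) (hN : PicF.IsInvertible N) (hI : BlowUp.IsEffCartierIdeal I)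
    (hJ : BlowUp.IsEffCartierIdeal J)
    (e : Nonempty (CohB1.tensorMod N (ClSub.idealMod J) ≅ (Scheme.Modules.pullback μ).obj M))
    {U : X.Opens} {t : Γ(M, U)} (ht : Groth.Agent.Fdesc.LocGen.IsGen t) :
    Nonempty ((CohB1.tensorMod N (ClSub.idealMod I)).restrict (μ ⁻¹ᵁ U).ι ≅
      (Scheme.Modules.restrictFunctor (μ ⁻¹ᵁ U).ι).obj (mod (colon I J))) := by
  obtain ⟨i, hi⟩ := K577.LatIdeal.exists_isGen hI
  obtain ⟨j, hj⟩ := K577.LatIdeal.exists_isGen hJ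
  rw [colon_eq_lat hi hj]
  exact nonempty_iso_div μ hη hM hN hI hJ e ht hi hj

/-- Vanishing of cohomology for the lattice `i / j`. -/
theorem subsingleton_div (hM : PicF.IsInvertible M) (hN : PicF.IsInvertible N) (hI : BlowUp.IsEffCartierIdeal I)
    (hJ : BlowUp.IsEffCartierIdeal J)
    (e : Nonempty (CohB1.tensorMod N (ClSub.idealMod J) ≅ (Scheme.Modules.pullback μ).obj M))
    {U : X.Opens} {t : Γ(M, U)} (ht : Groth.Agent.Fdesc.LocGen.IsGen t)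
    {i j : Y → (Y.functionField)ˣ} (hi : K577.LatIdeal.IsGen I i) (hj : K577.LatIdeal.IsGen J j) (q : ℕ)
    (h : Subsingleton (Coh.HH (μ ⁻¹ᵁ U).toScheme
      ((CohB1.tensorMod N (ClSub.idealMod I)).restrict (μ ⁻¹ᵁ U).ι) q)) :
    Subsingleton (Coh.HH (μ ⁻¹ᵁ U).toScheme
      ((Scheme.Modules.restrictFunctor (μ ⁻¹ᵁ U).ι).obj (mod (lat (i / j)))) q) := by
  obtain ⟨φ⟩ := nonempty_iso_div μ hη hM hN hI hJ e ht hi hj
  exact Fga.HShift.subsingleton_of_iso φ q h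

/-- Vanishing of cohomology for the lattice `colon I J`. -/
theorem subsingleton_colon (hM : PicF.IsInvertible M) (hN : PicF.IsInvertible N) (hI : BlowUp.IsEffCartierIdeal I)
    (hJ : BlowUp.IsEffCartierIdeal J)
    (e : Nonempty (CohB1.tensorMod N (ClSub.idealMod J) ≅ (Scheme.Modules.pullback μ).obj M))
    {U : X.Opens} {t : Γ(M, U)} (ht : Groth.Agent.Fdesc.LocGen.IsGen t) (q : ℕ)
    (h : Subsingleton (Coh.HH (μ ⁻¹ᵁ U).toScheme
      ((CohB1.tensorMod N (ClSub.idealMod I)).restrict (μ ⁻¹ᵁ U).ι) q)) :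
    Subsingleton (Coh.HH (μ ⁻¹ᵁ U).toScheme
      ((Scheme.Modules.restrictFunctor (μ ⁻¹ᵁ U).ι).obj (mod (colon I J))) q) := by
  obtain ⟨φ⟩ := nonempty_iso_colon μ hη (I := I) hM hN hI hJ e ht
  exact Fga.HShift.subsingleton_of_iso φ q h

/-- **Mayer-Vietoris over `μ⁻¹ U`**: `M` trivial over `U`, `H^1(μ⁻¹ U, N ⊗ I) = 0`, `μ⁻¹ U = A ∪ B`; every rational
function with `f J ⊆ I` on `A ∩ B` is `a - b` with `a J ⊆ I` on `A`, `b J ⊆ I` on `B`. -/
theorem mv_local (hM : PicF.IsInvertible M) (hN : PicF.IsInvertible N) (hI : BlowUp.IsEffCartierIdeal I)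
    (hJ : BlowUp.IsEffCartierIdeal J)
    (e : Nonempty (CohB1.tensorMod N (ClSub.idealMod J) ≅ (Scheme.Modules.pullback μ).obj M))
    {U : X.Opens} {t : Γ(M, U)} (ht : Groth.Agent.Fdesc.LocGen.IsGen t)
    (h : Subsingleton (Coh.HH (μ ⁻¹ᵁ U).toScheme
      ((CohB1.tensorMod N (ClSub.idealMod I)).restrict (μ ⁻¹ᵁ U).ι) 1))
    {A B : Y.Opens} (hAB : A ⊔ B = μ ⁻¹ᵁ U) {f : Y.functionField} (hf : ∀ y ∈ A ⊓ B, f ∈ colon I J y) :
    ∃ a b : Y.functionField, (∀ y ∈ A, a ∈ colon I J y) ∧ (∀ y ∈ B, b ∈ colon I J y) ∧ a - b = f := by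
  obtain ⟨a, ha, b, hb, hab⟩ := exists_sub hAB (subsingleton_colon μ hη hM hN hI hJ e ht 1 h) hf
  exact ⟨a, b, ha, hb, hab⟩

/-- **Global Mayer-Vietoris**: `H^1(Y, N ⊗ μ^* L ⊗ I) = 0`, `Y = A ∪ B`. -/
theorem mv_global (hN : PicF.IsInvertible N) (hI : BlowUp.IsEffCartierIdeal I)
    (hJ : BlowUp.IsEffCartierIdeal J)
    (e : Nonempty (CohB1.tensorMod N (ClSub.idealMod J) ≅ (Scheme.Modules.pullback μ).obj M))
    {m : X → (X.functionField)ˣ} (hm : HasCoc M (fun x => (m x : X.functionField)))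
    {L : X.Modules} {l : X → (X.functionField)ˣ} (hl : HasCoc L (fun x => (l x : X.functionField)))
    {i j : Y → (Y.functionField)ˣ} (hi : K577.LatIdeal.IsGen I i) (hj : K577.LatIdeal.IsGen J j)
    (h : Subsingleton (Coh.HH Y
      (CohB1.tensorMod N (CohB1.tensorMod ((Scheme.Modules.pullback μ).obj L) (ClSub.idealMod I))) 1))
    {A B : Y.Opens} (hAB : A ⊔ B = ⊤) {f : Y.functionField}
    (hf : ∀ y ∈ A ⊓ B, f ∈ lat (pb μ hη (m * l) * (i / j)) y) :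
    ∃ a b : Y.functionField, (∀ y ∈ A, a ∈ lat (pb μ hη (m * l) * (i / j)) y) ∧
      (∀ y ∈ B, b ∈ lat (pb μ hη (m * l) * (i / j)) y) ∧ a - b = f := by
  obtain ⟨φ⟩ := nonempty_iso_global μ hη hN hI hJ e hm hl hi hj
  obtain ⟨a, ha, b, hb, hab⟩ := exists_sub_top hAB (Fga.HShift.subsingleton_of_iso φ 1 h) hf
  exact ⟨a, b, ha, hb, hab⟩

end adj

end K680.Mv
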