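import Groth.Agent.AdjLin.K680.Mv
import Groth.Agent.AdjLin.K134.JacRat

/-!
# The end step: sections generating at a point

`μ : Y ⟶ X` proper birational, `X` normal, `N ⊗ J ≅ μ^* M`, `J` effective Cartier and trivial where `μ` is an
isomorphism.

* `fm_bijective`: `K(X) = K(Y)`.
* `exists_of_secs` (J3): a section of `lat (μ^* c * i / j)` over `μ⁻¹ V` is a section of `lat c` over `V`.
* `exists_gen`: if `H^1(Y, N ⊗ μ^* L ⊗ I) = 0`, and near the closed point `x` one has `J_y ⊆ I_y` for all `y` not over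
  `x`, but not for some `y` over `x`, then `M ⊗ L` has a global section generating it at `x`.
-/

set_option autoImplicit false
universe u
open CategoryTheory CategoryTheory.Limits AlgebraicGeometry TopologicalSpace Opposite

namespace K680.End

open Groth.Agent Groth.Agent.Fdesc.LocGen Groth.Agent.Lefpen.H725.CocDef Groth.Agent.Lefpen.H521.CartierCoc
open K577.Lat K577.LatIdeal K756.LatSh K475.GenStalk Groth.Agent.Divis.CartierBasic K680.LatCoc K680.Mv
open K84.Iface

variable {X Y : Scheme.{u}} [IsIntegral X] [IsIntegral Y]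

/-- The function fields are equal. -/
theorem fm_surjective (μ : Y ⟶ X) (hμ : IsBir μ) (hη : μ (genericPoint Y) = genericPoint X) :
    Function.Surjective (K515.FF.fm μ hη) := by
  have h1 : IsIso (μ.stalkMap (genericPoint Y)) := K134.JacRat.isIso_stalkMap_generic hμ
  intro φ
  obtain ⟨ψ, hψ⟩ := ((ConcreteCategory.isIso_iff_bijective _).1 h1).2 φ
  obtain ⟨U, hU, s, hs⟩ := X.presheaf.exists_germ_eq ψ
  have hU' : genericPoint X ∈ U := hη ▸ hU
  refine ⟨ff U hU' s, ?_⟩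
  rw [K515.FF.fm_germ μ hη U hU' hU s, ← hψ, ← hs]
  exact (μ.germ_stalkMap_apply U (genericPoint Y) hU s).symm

/-- Multiplying a lattice by a rational function. -/
theorem mem_lat_mul_iff {g g' : X → (X.functionField)ˣ} {x : X} {c : (X.functionField)ˣ} (h : g x / c ∈ unitR x)
    {f : X.functionField} : f ∈ lat (g * g') x ↔ f / c ∈ lat g' x := by
  obtain ⟨⟨u, v, huv, hvu⟩, hu⟩ := mem_unitR.mp h
  have hu' : algebraMap (X.presheaf.stalk x) X.functionField u = (g x : X.functionField) / c := by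
    rw [← Units.val_div_eq_div_val]
    exact hu
  have hv' : algebraMap (X.presheaf.stalk x) X.functionField v = (c : X.functionField) / g x := by
    have h1 : algebraMap (X.presheaf.stalk x) X.functionField u * algebraMap (X.presheaf.stalk x) X.functionField v = 1 := by
      rw [← map_mul, huv, map_one]
    rw [eq_inv_of_mul_eq_one_right h1, hu', inv_div]
  have hg := (g x).ne_zero
  have hg' := (g' x).ne_zero
  have hc := c.ne_zero
  rw [mem_lat', mem_lat', Pi.mul_apply, Units.val_mul, RingHom.mem_range, RingHom.mem_range]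
  constructor
  · rintro ⟨r, hr⟩
    refine ⟨r * u, ?_⟩
    rw [map_mul, hr, hu']
    field_simp
  · rintro ⟨r, hr⟩
    refine ⟨r * v, ?_⟩
    rw [map_mul, hr, hv']
    field_simp

variable [IsLocallyNoetherian X]

/-- (J3) for lattices: a section of `lat (μ^* c * i / j)` over `μ⁻¹ V` is a section of `lat c` over `V`. -/
theorem exists_of_secs (hX : ∀ x : X, IsIntegrallyClosed (X.presheaf.stalk x)) (μ : Y ⟶ X) [IsProper μ]
    (hμ : IsBir μ) (hη : μ (genericPoint Y) = genericPoint X) {I J : Y.IdealSheafData}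
    (hJs : ∀ V : X.Opens, IsIso (μ ∣_ V) → ∀ y, μ y ∈ V → y ∉ J.support)
    {c : X → (X.functionField)ˣ} (hc : c ∈ CD X) {i j : Y → (Y.functionField)ˣ}
    (hi : K577.LatIdeal.IsGen I i) (hj : K577.LatIdeal.IsGen J j) {V : X.Opens} {F : Y.functionField}
    (hF : ∀ y, μ y ∈ V → F ∈ lat (pb μ hη c * (i / j)) y) :
    ∃ f : X.functionField, K515.FF.fm μ hη f = F ∧ ∀ x ∈ V, f ∈ lat c x := by
  obtain ⟨f, rfl⟩ := fm_surjective μ hμ hη F
  refine ⟨f, rfl, fun x hx => ?_⟩
  obtain ⟨O₁, hxO₁, hO₁⟩ := hc x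
  set O : X.Opens := O₁ ⊓ V with hO
  have hxO : x ∈ O := ⟨hxO₁, hx⟩
  have hηO : genericPoint X ∈ O := gen_mem hxO
  have hηO' : genericPoint Y ∈ μ ⁻¹ᵁ O := by
    change μ (genericPoint Y) ∈ O
    rw [hη]
    exact hηO
  have hne : Nonempty (μ ⁻¹ᵁ O) := ⟨⟨_, hηO'⟩⟩
  have key : ∀ y, μ y ∈ O → K515.FF.fm μ hη (f / c x) ∈ colon I J y := by
    intro y hy
    rw [colon_eq_lat hi hj, map_div₀]
    have h1 : pb μ hη c y / pb μ hη (fun _ => c x) y ∈ unitR y := by
      have h2 := pb_mem_unitR μ hη (m := fun z => c z / c x) (y := y) (hO₁ _ hy.1)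
      have h3 : pb μ hη (fun z => c z / c x) y = pb μ hη c y / pb μ hη (fun _ => c x) y := by
        simp only [pb, map_div]
      rwa [h3] at h2
    exact (mem_lat_mul_iff h1).mp (hF y hy.2)
  obtain ⟨s, hs⟩ := K134.JacRat.exists_section_of_mul_mem hX μ hμ J hJs O (K515.FF.fm μ hη (f / c x)) (by
    intro y hy a ha
    obtain ⟨t, -, ht⟩ := key y hy a ha
    exact ⟨t, ht⟩)
  have h1 : ff O hηO s = f / c x := by
    apply (K515.FF.fm μ hη).injective
    rw [K515.FF.fm_germ μ hη O hηO hηO' s]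
    exact hs
  rw [mem_lat', ← h1]
  exact ⟨X.presheaf.germ O x hxO s, algebraMap_germ x hxO hηO s⟩

/-- **The end step.** -/
theorem exists_gen (hX : ∀ x : X, IsIntegrallyClosed (X.presheaf.stalk x)) (μ : Y ⟶ X) [IsProper μ]
    (hμ : IsBir μ) {M L : X.Modules} {N : Y.Modules} (hM : PicF.IsInvertible M) (hN : PicF.IsInvertible N)
    (hL : PicF.IsInvertible L) {I J : Y.IdealSheafData} (hI : BlowUp.IsEffCartierIdeal I)
    (hJ : BlowUp.IsEffCartierIdeal J) (hJs : ∀ V : X.Opens, IsIso (μ ∣_ V) → ∀ y, μ y ∈ V → y ∉ J.support)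
    (e : Nonempty (CohB1.tensorMod N (ClSub.idealMod J) ≅ (Scheme.Modules.pullback μ).obj M))
    (h1 : Subsingleton (Coh.HH Y
      (CohB1.tensorMod N (CohB1.tensorMod ((Scheme.Modules.pullback μ).obj L) (ClSub.idealMod I))) 1))
    (x : X) (hx : IsClosed ({x} : Set X)) (U : X.Opens) (hxU : x ∈ U)
    (hU : ∀ y, μ y ∈ U → μ y ≠ x → stalkIdeal J y ≤ stalkIdeal I y)
    (hne : ∃ y, μ y = x ∧ ¬ stalkIdeal J y ≤ stalkIdeal I y) :
    ∃ s : Coh.structureModule X ⟶ CohB1.tensorMod M L, x ∈ CohB1.genLocus _ s := by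
  have hη : μ (genericPoint Y) = genericPoint X := K588.Bir.map_genericPoint hμ
  obtain ⟨m, -, hm, -⟩ := exists_lat hM
  obtain ⟨l, -, hl, -⟩ := exists_lat hL
  obtain ⟨i, hi⟩ := K577.LatIdeal.exists_isGen hI
  obtain ⟨j, hj⟩ := K577.LatIdeal.exists_isGen hJ
  have hml := hasCoc_mul hm hl
  obtain ⟨φ⟩ := nonempty_iso_lat hml
  have hc := mem_CD_of_hasCoc hml
  set c : X → (X.functionField)ˣ := m * l with hcdef
  obtain ⟨O₁, hxO₁, hO₁⟩ := hc x
  have hcomp : ∀ y, μ y ∈ O₁ → pb μ hη c y / pb μ hη (fun _ => c x) y ∈ unitR y := by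
    intro y hy
    have h2 := pb_mem_unitR μ hη (m := fun z => c z / c x) (y := y) (hO₁ _ hy)
    have h3 : pb μ hη (fun z => c z / c x) y = pb μ hη c y / pb μ hη (fun _ => c x) y := by
      simp only [pb, map_div]
    rwa [h3] at h2
  let A : Y.Opens := μ ⁻¹ᵁ ⟨{x}ᶜ, hx.isOpen_compl⟩
  let B : Y.Opens := μ ⁻¹ᵁ (O₁ ⊓ U)
  have hAB : A ⊔ B = ⊤ := by
    rw [eq_top_iff]
    rintro y -
    by_cases hy : μ y = x
    · exact Or.inr (show μ y ∈ O₁ ⊓ U from hy ▸ ⟨hxO₁, hxU⟩)
    · exact Or.inl hy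
  -- `1 ∈ i / j` is equivalent to `J ⊆ I`
  have hone : ∀ y, (1 : Y.functionField) ∈ lat (i / j) y ↔ stalkIdeal J y ≤ stalkIdeal I y := by
    intro y
    rw [← colon_eq_lat hi hj, mem_colon]
    constructor
    · intro h s hs
      obtain ⟨t, ht, hts⟩ := h s hs
      rw [one_mul] at hts
      rwa [← algebraMap_inj y hts]
    · intro h s hs
      exact ⟨s, h hs, (one_mul _).symm⟩
  obtain ⟨a, b, ha, hb, hab⟩ := mv_global μ hη hN hI hJ e hm hl hi hj h1 hAB
    (f := K515.FF.fm μ hη (c x)) (by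
      rintro y ⟨hyA, hyB⟩
      refine (mem_lat_mul_iff (hcomp y hyB.1)).mpr ?_
      rw [coe_pb, div_self ((map_ne_zero _).mpr (c x).ne_zero), hone]
      exact hU y hyB.2 hyA)
  obtain ⟨a', rfl, ha'⟩ := exists_of_secs hX μ hμ hη hJs hc hi hj (V := ⟨{x}ᶜ, hx.isOpen_compl⟩) ha
  obtain ⟨b', rfl, hb'⟩ := exists_of_secs hX μ hμ hη hJs hc hi hj (V := O₁ ⊓ U) hb
  rw [← map_sub] at hab
  have hab' : a' = c x + b' := by
    have := (K515.FF.fm μ hη).injective hab
    rw [← this, sub_add_cancel]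
  have hspan : ∀ z ∈ O₁, lat c z = lat (fun _ => c x) z := fun z hz => lat_congr (g' := fun _ => c x) (hO₁ z hz)
  -- `a'` is a global section
  have hglob : ∀ z ∈ (⊤ : X.Opens), a' ∈ lat c z := by
    intro z _
    by_cases hz : z = x
    · subst hz
      rw [hab']
      exact (lat c z).add_mem (gen_mem_lat c z) (hb' z ⟨hxO₁, hxU⟩)
    · exact ha' z hz
  -- `b' / c x` is in the maximal ideal of `x`
  obtain ⟨r, hr⟩ := mem_lat'.mp (hb' x ⟨hxO₁, hxU⟩)
  have hrm : r ∈ IsLocalRing.maximalIdeal (X.presheaf.stalk x) := by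
    rw [IsLocalRing.mem_maximalIdeal, mem_nonunits_iff]
    intro hru
    obtain ⟨y, hyx, hy⟩ := hne
    apply hy
    rw [← hone]
    have hb0 : (b' : X.functionField) ≠ 0 := by
      rintro rfl
      rw [zero_div] at hr
      exact hru.ne_zero (algebraMap_inj x (hr.trans (map_zero _).symm))
    have h2 : UnitAt (μ y) ((b' : X.functionField) / c x) := by
      rw [hyx]
      have h3 : Units.mk0 ((b' : X.functionField) / c x) (div_ne_zero hb0 (c x).ne_zero) ∈ unitR x := by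
        obtain ⟨r', rfl⟩ := hru
        exact mem_unitR.mpr ⟨r', hr⟩
      exact mem_unitR_iff_unitAt.mp h3
    have h3 := K515.FF.fm_unitAt μ hη h2
    have h4 := (mem_lat_mul_iff (hcomp y (by rw [hyx]; exact hxO₁))).mp (hb y (show μ y ∈ O₁ ⊓ U from hyx ▸ ⟨hxO₁, hxU⟩))
    rw [coe_pb, ← map_div₀] at h4
    have h5 := K515.FF.unitAt_iff.mp h3
    obtain ⟨w, hw⟩ := h5.2.2
    have h6 := (lat (i / j) y).smul_mem w h4
    rw [Algebra.smul_def] at h6
    have h7 : algebraMap (Y.presheaf.stalk y) Y.functionField w = (K515.FF.fm μ hη (b' / c x))⁻¹ := hw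
    rwa [h7, inv_mul_cancel₀ h5.1] at h6
  have hru : IsUnit (1 + r) := by
    by_contra hn
    have h2 : (1 : X.presheaf.stalk x) ∈ IsLocalRing.maximalIdeal (X.presheaf.stalk x) := by
      have := (IsLocalRing.maximalIdeal (X.presheaf.stalk x)).sub_mem
        ((IsLocalRing.mem_maximalIdeal _).mpr hn) hrm
      rwa [add_sub_cancel_right] at this
    exact (IsLocalRing.mem_maximalIdeal _).mp h2 isUnit_one
  have ha0' : algebraMap (X.presheaf.stalk x) X.functionField (1 + r) = a' / c x := by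
    rw [map_add, map_one]
    have : algebraMap (X.presheaf.stalk x) X.functionField r = b' / c x := hr
    rw [this, hab', add_div, div_self (c x).ne_zero]
  have ha0 : a' ≠ 0 := by
    rintro rfl
    rw [zero_div] at ha0'
    exact hru.ne_zero (algebraMap_inj x (ha0'.trans (map_zero _).symm))
  have hua : Units.mk0 a' ha0 / c x ∈ unitR x := by
    obtain ⟨r', hr'⟩ := hru
    refine mem_unitR.mpr ⟨r', ?_⟩
    rw [hr', ha0', Units.val_div_eq_div_val]
    rfl
  obtain ⟨O₂, hxO₂, hO₂⟩ := exists_open_unitR hua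
  have hspan' : ∀ z ∈ O₁ ⊓ O₂, lat c z = Submodule.span (X.presheaf.stalk z) {a'} := by
    intro z hz
    rw [hspan z hz.1]
    exact (lat_congr (g := fun _ => Units.mk0 a' ha0) (g' := fun _ => c x) (hO₂ z hz.2)).symm
  let s₀ : Γ(mod (lat c), ⊤) := mk ⊤ a' hglob
  refine ⟨homOf (φ.inv.app ⊤ s₀), (mem_genLocus_iff _ x).mpr ⟨O₁ ⊓ O₂, ⟨hxO₁, hxO₂⟩, ?_⟩⟩
  rw [sec_homOf, ← app_res φ.inv (le_top : O₁ ⊓ O₂ ≤ ⊤) s₀]
  exact IsGen.app φ.inv (isGen_mk ha0 hspan')

end K680.End
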