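import Groth.Agent.AdjLin.K633.Plan
import Groth.Agent.AdjLin.K680.End
import Groth.Agent.AdjLin.K134.JacStalk
import Groth.Agent.Variety.K658.RelDimComp
import Groth.Agent.Sga4h.BidRed538Geo
import Groth.Agent.Vanish.K911.Ncd
import Groth.Agent.Divis.EffCartier
import Groth.Agent.Dual.H366.ExtQCoh
import Groth.Agent.Dual.H366.ConSec
import Groth.Agent.S9705

/-!
# Mayer-Vietoris and the end step in the form of `K633.Fuj`

* `relDim_bir`: `M.Y` is smooth of relative dimension `n` over `k`; `isEff_J`, `isEff_mon`, `jacIso` (J1).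
* `bridge`: `H^q(μ⁻¹ U, ω' ⊗ ∏ E^e) = 0` implies `H^q(μ⁻¹ U, fr e) = 0`, `U` small around `x`.
* `nMV : NMV p n`.
-/

set_option autoImplicit false
universe u
open CategoryTheory CategoryTheory.Limits AlgebraicGeometry TopologicalSpace Opposite

namespace K680.PMv

open Groth.Agent K633.Fuj Groth.Agent.Divis.CartierBasic

variable {k : Type u} [Field k]

/-- The relative dimension is constant on an irreducible scheme. -/
theorem relDim_of_open {Y : Scheme.{u}} [IrreducibleSpace Y] (f : Y ⟶ Spec (CommRingCat.of k)) [Smooth f] (n : ℕ)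
    (W : Y.Opens) (hW : (W : Set Y).Nonempty) (h : SmoothOfRelativeDimension n (W.ι ≫ f)) :
    SmoothOfRelativeDimension n f := by
  choose e U hU he using fun w : Y => Groth.Agent.Sga4h.BidRed538Geo.exists_relDim f w
  have hcov : ⨆ w, U w = ⊤ := by
    rw [eq_top_iff]
    intro w _
    exact Opens.mem_iSup.2 ⟨w, hU w⟩
  have key : ∀ w, e w = n := by
    intro w
    obtain ⟨z, hz1, hz2⟩ := nonempty_preirreducible_inter (U w).2 W.2 ⟨w, hU w⟩ hW
    have h1 : SmoothOfRelativeDimension (0 + e w) (Y.homOfLE (inf_le_left : U w ⊓ W ≤ U w) ≫ (U w).ι ≫ f) := by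
      have := he w
      infer_instance
    have h2 : SmoothOfRelativeDimension (0 + n) (Y.homOfLE (inf_le_right : U w ⊓ W ≤ W) ≫ W.ι ≫ f) :=
      inferInstance
    rw [← Category.assoc, Scheme.homOfLE_ι, zero_add] at h1 h2
    exact K658.RelDimComp.unique _ _ _ h1 h2 ⟨z, hz1, hz2⟩
  have hloc : IsZariskiLocalAtSource (@SmoothOfRelativeDimension.{u} n) :=
    HasRingHomProperty.instIsZariskiLocalAtSource (P := @SmoothOfRelativeDimension.{u} n)
  rw [IsZariskiLocalAtSource.iff_of_iSup_eq_top (P := @SmoothOfRelativeDimension n) _ hcov]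
  intro w
  rw [← key w]
  exact he w

/-- A smooth birational modification has the same relative dimension. -/
theorem relDim_bir {X Y : Scheme.{u}} [IrreducibleSpace Y] (μ : Y ⟶ X) (p : X ⟶ Spec (CommRingCat.of k)) (n : ℕ)
    [SmoothOfRelativeDimension n p] [Smooth (μ ≫ p)] (hμ : K84.Iface.IsBir μ) :
    SmoothOfRelativeDimension n (μ ≫ p) := by
  obtain ⟨V, ⟨x, hx⟩, hV⟩ := hμ
  obtain ⟨y, hy⟩ := K588.Bir.exists_of_isIso_restrict μ hV hx
  refine relDim_of_open (μ ≫ p) n (μ ⁻¹ᵁ V) ⟨y, ?_⟩ ?_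
  · change μ y ∈ V
    rw [hy]
    exact hx
  · have h1 : (μ ⁻¹ᵁ V).ι ≫ μ ≫ p = (μ ∣_ V) ≫ V.ι ≫ p := by
      rw [← Category.assoc, ← morphismRestrict_ι, Category.assoc]
    rw [h1]
    have h2 : SmoothOfRelativeDimension (0 + (0 + n)) ((μ ∣_ V) ≫ V.ι ≫ p) := inferInstance
    rwa [zero_add, zero_add] at h2

section ctx

variable {X : Scheme.{u}} {p : X ⟶ Spec (CommRingCat.of k)} {n : ℕ} {L : X.Modules}

theorem isProper (h : RelProj.IsHProjective p) : IsProper p :=
  ((Groth.Agent.S9705.result p).mp h).2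

theorem relDim (C : Ctx p n L) (M : Model p) : SmoothOfRelativeDimension n (M.μ ≫ p) := by
  have := C.smooth
  have := M.smooth
  exact relDim_bir M.μ p n M.bir

theorem isProper_μ (C : Ctx p n L) (M : Model p) : IsProper M.μ := by
  have h1 := isProper C.proj
  have h2 := isProper M.proj
  exact IsProper.of_comp M.μ p

theorem isEff_J (C : Ctx p n L) (M : Model p) : BlowUp.IsEffCartierIdeal M.J := by
  have := C.int
  have := C.smooth
  have := relDim C M
  have h1 := isProper C.proj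
  have h2 := isProper M.proj
  exact K134.JacCart.isEff_jac_of_isBir n M.μ p M.bir

theorem isEff_mon (M : Model p) (e : Fin M.r → ℕ) : BlowUp.IsEffCartierIdeal (M.mon e) := by
  have := M.smooth
  have h : ∀ s : Finset (Fin M.r), BlowUp.IsEffCartierIdeal (∏ i ∈ s, M.E i ^ e i) := by
    classical
    intro s
    induction s using Finset.induction_on with
    | empty =>
      rw [Finset.prod_empty]
      exact Divis.EffCartier.isEff_top
    | insert i s hi ih =>
      rw [Finset.prod_insert hi]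
      exact Divis.EffCartier.isEff_mul (Divis.EffCartier.isEff_pow (K911.Ncd.isEff_of_isNCD M.snc i) _) ih
  exact h Finset.univ

/-- (J1) -/
theorem jacIso (C : Ctx p n L) (M : Model p) {ω : X.Modules} {ω' : M.Y.Modules} (hω : Canon.IsTopDiff p n ω)
    (hω' : Canon.IsTopDiff (M.μ ≫ p) n ω') :
    Nonempty (CohB1.tensorMod ω' (ClSub.idealMod M.J) ≅ (Scheme.Modules.pullback M.μ).obj ω) := by
  have := C.int
  have := C.smooth
  have := relDim C M
  have h1 := isProper C.proj
  have h2 := isProper M.proj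
  exact K134.JacStalk.exists_iso n M.μ p
    ((ConcreteCategory.isIso_iff_bijective _).1 (K134.JacRat.isIso_stalkMap_generic M.bir)).2 hω hω'

theorem isInvertible_topDiff {Z S : Scheme.{u}} (f : Z ⟶ S) [QuasiSeparated f] [SmoothOfRelativeDimension n f]
    {ω : Z.Modules} (hω : Canon.IsTopDiff f n ω) : PicF.IsInvertible ω :=
  K430.CanDiv.isInvertible_extPow (Dual.H339.OmegaRank.isFinLocFreeOfRank_omega n f) hω

theorem exists_topDiff {Z S : Scheme.{u}} (f : Z ⟶ S) [QuasiSeparated f] [SmoothOfRelativeDimension n f] :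
    ∃ ω : Z.Modules, Canon.IsTopDiff f n ω :=
  Dual.H366.ExtQCoh.exists_isExtPow n (Dual.H366.ConSec.isQCoh_omega f)

theorem fr_eq_colon (M : Model p) (e : Fin M.r → ℕ) : M.fr e = K577.LatIdeal.colon (M.mon e) M.J :=
  funext fun _ => Submodule.ext fun _ => Iff.rfl

/-- **The bridge.** -/
theorem bridge (C : Ctx p n L) (M : Model p) (x : X) : ∃ U₀ : X.Opens, x ∈ U₀ ∧ ∀ U : X.Opens, U ≤ U₀ →
    ∀ (e : Fin M.r → ℕ) (ω' : M.Y.Modules), Canon.IsTopDiff (M.μ ≫ p) n ω' → ∀ q : ℕ,
      Subsingleton (Coh.HHon M.Y (CohB1.tensorMod ω' (ClSub.idealMod (M.mon e))) (M.μ ⁻¹ᵁ U) q) →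
      Subsingleton (Coh.HH (M.μ ⁻¹ᵁ U).toScheme
        ((Scheme.Modules.restrictFunctor (M.μ ⁻¹ᵁ U).ι).obj (K756.LatSh.mod (M.fr e))) q) := by
  have := C.int
  have := C.smooth
  have := relDim C M
  have h1 := isProper C.proj
  have h2 := isProper M.proj
  obtain ⟨ω, hω⟩ := exists_topDiff (n := n) p
  have hωi := isInvertible_topDiff p hω
  obtain ⟨U₀, t, hx, ht⟩ := (Fdesc.LocGen.isInvertible_iff ω).1 hωi x
  refine ⟨U₀, hx, fun U hU e ω' hω' q h => ?_⟩
  rw [fr_eq_colon]
  exact K680.Mv.subsingleton_colon M.μ (K588.Bir.map_genericPoint M.bir) hωi (isInvertible_topDiff (M.μ ≫ p) hω')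
    (isEff_mon M e) (isEff_J C M) (jacIso C M hω hω') (ht.res hU) q h

/-- **Mayer-Vietoris** in the form of the plan. -/
theorem nMV (C : Ctx p n L) : NMV p n := by
  intro M x
  obtain ⟨U₀, hx, H⟩ := bridge C M x
  refine ⟨U₀, hx, fun U hU _ e ω' hω' h V₁ V₂ hV f hf => ?_⟩
  obtain ⟨a, ha, b, hb, hab⟩ := K680.Mv.exists_sub hV (H U hU e ω' hω' 1 h) hf
  exact ⟨a, b, hab.symm, ha, hb⟩

end ctx

end K680.PMv
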