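import Groth.Agent.AdjLin.K577.LatIdeal
import Groth.Agent.BlowUp.K484.CocIdeal
import Groth.Agent.AbVar.K515.FF

/-!
# Lattices in the function field and Cartier cocycles

* `mem_unitR_iff_unitAt`;
* `hasCoc_mod`: `mod (lat g)` has the Cartier cocycle `g`;
* `exists_lat`: an invertible module with Cartier cocycle `a` is isomorphic to `mod (lat a)`;
* `hasCoc_idealMod`: the module of an effective Cartier ideal;
* `exists_coc_unitAt`: a module with a generator over `U` has a cocycle consisting of units over `U`;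
* `hasCoc_adj`: if `N ⊗ J ≅ μ^* M` then `N` has the cocycle `μ^* m / j`.
-/

set_option autoImplicit false
universe u
open CategoryTheory CategoryTheory.Limits AlgebraicGeometry TopologicalSpace Opposite

namespace K680.LatCoc

open Groth.Agent.Fdesc.LocGen Groth.Agent.Lefpen.H725.CocDef Groth.Agent.Lefpen.H521.CartierCoc
open K577.Lat K577.LatIdeal K756.LatSh K475.GenStalk Groth.Agent.Divis.CartierBasic

variable {X : Scheme.{u}} [IsIntegral X]

theorem mem_unitR_iff_unitAt {x : X} {a : (X.functionField)ˣ} : a ∈ unitR x ↔ UnitAt x (a : X.functionField) := by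
  rw [mem_unitR_iff, K515.FF.unitAt_iff, Units.val_inv_eq_inv_val]
  exact ⟨fun h => ⟨a.ne_zero, h.1, h.2⟩, fun h => ⟨h.2.1, h.2.2⟩⟩

/-- A rational function generating all members of a family over `V` is a generator over `V`. -/
theorem isGen_mk {P : Fam X} {U : X.Opens} {a : X.functionField} (ha : a ≠ 0)
    (h : ∀ y ∈ U, P y = Submodule.span (X.presheaf.stalk y) {a}) :
    Groth.Agent.Fdesc.LocGen.IsGen (mk (P := P) U a fun y hy => by
      rw [h y hy]; exact Submodule.mem_span_singleton_self a) := by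
  have hmem : ∀ y ∈ U, a ∈ P y := fun y hy => by
    rw [h y hy]; exact Submodule.mem_span_singleton_self a
  intro V hV
  by_cases hne : (V : Set X).Nonempty
  · obtain ⟨v, hv⟩ := hne
    have hηV : genericPoint X ∈ V := gen_mem hv
    constructor
    · intro b c hbc
      have h1 := congrArg (fun s : Γ(mod P, V) => s.1 ⟨genericPoint X, hηV⟩) hbc
      have e1 := smul_val hηV b (res (mod P) hV (mk (P := P) U a hmem)) ⟨genericPoint X, hηV⟩
      have e2 := smul_val hηV c (res (mod P) hV (mk (P := P) U a hmem)) ⟨genericPoint X, hηV⟩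
      have h2 : ff V hηV b * a = ff V hηV c * a := e1.symm.trans (h1.trans e2)
      exact ff_injective V hηV (mul_right_cancel₀ ha h2)
    · intro s
      have h1 : ∀ z ∈ V, RegAt z ((s.1 ⟨genericPoint X, hηV⟩ : X.functionField) / a) := by
        intro z hz
        rw [K515.FF.regAt_iff]
        have h2 : s.1 ⟨genericPoint X, hηV⟩ ∈ P z := by
          rw [apply_eq s ⟨genericPoint X, hηV⟩ ⟨z, hz⟩]
          exact apply_mem s ⟨z, hz⟩
        rw [h z (hV hz), Submodule.mem_span_singleton] at h2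
        obtain ⟨r, hr⟩ := h2
        refine ⟨r, ?_⟩
        rw [← hr, Algebra.smul_def, mul_div_cancel_right₀ _ ha]
        rfl
      obtain ⟨b, hb⟩ := exists_of_regAt hηV h1
      refine ⟨b, ext' fun z => ?_⟩
      refine (smul_val hηV b _ z).trans ?_
      change ff V hηV b * a = _
      rw [hb, div_mul_cancel₀ _ ha]
      exact apply_eq s _ _
  · have h1 : Subsingleton Γ(mod P, V) := ⟨fun s t => ext' fun z => absurd ⟨z.1, z.2⟩ hne⟩
    have h2 : Subsingleton Γ(X, V) := by
      have : V = ⊥ := by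
        ext z
        exact ⟨fun hz => absurd ⟨z, hz⟩ hne, fun hz => absurd hz (by simp)⟩
      subst this
      infer_instance
    exact ⟨fun a b _ => Subsingleton.elim _ _, fun s => ⟨0, Subsingleton.elim _ _⟩⟩

/-- The module of a Cartier datum has the corresponding cocycle. -/
theorem hasCoc_mod {g : X → (X.functionField)ˣ} (hg : g ∈ CD X) :
    HasCoc (mod (lat g)) (fun x => (g x : X.functionField)) := by
  choose U hxU hU using mem_CD.mp hg
  have hspan : ∀ x, ∀ y ∈ U x, lat g y = Submodule.span (X.presheaf.stalk y) {(g x : X.functionField)} :=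
    fun x y hy => lat_congr (g' := fun _ => g x) (hU x y hy)
  have hη : ∀ x, genericPoint X ∈ U x := fun x => gen_mem (hxU x)
  have hmem : ∀ x, ∀ y ∈ U x, (g x : X.functionField) ∈ lat g y := fun x y hy => by
    rw [hspan x y hy]
    exact Submodule.mem_span_singleton_self _
  have hgen : ∀ x, Groth.Agent.Fdesc.LocGen.IsGen (mk (P := lat g) (U x) (g x : X.functionField) (hmem x)) :=
    fun x => isGen_mk (g x).ne_zero (hspan x)
  refine ⟨fun x => (g x).ne_zero, U, hxU, fun x => mk (P := lat g) (U x) (g x : X.functionField) (hmem x), hgen,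
    fun x y => ?_⟩
  obtain ⟨G, -, hG⟩ := ((hgen y).res (inf_le_right : U x ⊓ U y ≤ U y)).exists_unit
    ((hgen x).res (inf_le_left : U x ⊓ U y ≤ U x))
  refine ⟨G, ⟨hη x, hη y⟩, hG, ?_⟩
  have h1 := congrArg (fun s : Γ(mod (lat g), U x ⊓ U y) => s.1 ⟨genericPoint X, ⟨hη x, hη y⟩⟩) hG
  have h2 := smul_val (P := lat g) (U := U x ⊓ U y) ⟨hη x, hη y⟩ G
    (res (mod (lat g)) (inf_le_right : U x ⊓ U y ≤ U y) (mk (P := lat g) (U y) (g y : X.functionField) (hmem y)))
    ⟨genericPoint X, ⟨hη x, hη y⟩⟩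
  exact h1.trans h2

/-- A cocycle as a Cartier datum. -/
theorem mem_CD_of_hasCoc {L : X.Modules} {g : X → (X.functionField)ˣ}
    (h : HasCoc L (fun x => (g x : X.functionField))) : g ∈ CD X := by
  intro x
  obtain ⟨U, hU, h1⟩ := hasCoc_loc h x
  refine ⟨U, hU, fun y hy => ?_⟩
  rw [mem_unitR_iff_unitAt, Units.val_div_eq_div_val]
  have h2 := unitAt_inv (h1 y hy)
  rwa [inv_div] at h2

/-- An invertible module is isomorphic to the lattice of its cocycle. -/
theorem nonempty_iso_lat {L : X.Modules} {g : X → (X.functionField)ˣ}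
    (h : HasCoc L (fun x => (g x : X.functionField))) : Nonempty (L ≅ mod (lat g)) :=
  hasCoc_iso h (hasCoc_mod (mem_CD_of_hasCoc h)) 1 one_ne_zero fun x => by
    rw [one_mul, div_self (g x).ne_zero]
    exact K515.FF.unitAt_one x

/-- Cocycles with values in the units. -/
theorem exists_units {L : X.Modules} {a : X → X.functionField} (h : HasCoc L a) :
    ∃ g : X → (X.functionField)ˣ, (fun x => (g x : X.functionField)) = a :=
  ⟨fun x => Units.mk0 (a x) (h.1 x), rfl⟩

/-- Every invertible module is isomorphic to the lattice of a Cartier datum. -/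
theorem exists_lat {L : X.Modules} (hL : PicF.IsInvertible L) :
    ∃ g ∈ CD X, HasCoc L (fun x => (g x : X.functionField)) ∧ Nonempty (L ≅ mod (lat g)) := by
  obtain ⟨a, ha⟩ := exists_hasCoc hL
  obtain ⟨g, rfl⟩ := exists_units ha
  exact ⟨g, mem_CD_of_hasCoc ha, ha, nonempty_iso_lat ha⟩

/-- Changing a cocycle by local units. -/
theorem hasCoc_congr {L : X.Modules} {g g' : X → (X.functionField)ˣ}
    (h : HasCoc L (fun x => (g x : X.functionField))) (hg : lat g = lat g') :
    HasCoc L (fun x => (g' x : X.functionField)) :=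
  hasCoc_change h fun x => by
    have h1 := lat_eq_iff.mp (congrFun hg.symm x)
    rw [mem_unitR_iff_unitAt, Units.val_div_eq_div_val] at h1
    exact h1

/-- The module of an effective Cartier ideal. -/
theorem hasCoc_idealMod {I : X.IdealSheafData} (hI : BlowUp.IsEffCartierIdeal I)
    {g : X → (X.functionField)ˣ} (hg : K577.LatIdeal.IsGen I g) :
    HasCoc (ClSub.idealMod I) (fun x => (g x : X.functionField)) := by
  obtain ⟨t, ht, hE⟩ := K484.CocIdeal.exists_hasCoc_idealMod hI
  obtain ⟨g', rfl⟩ := exists_units ht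
  have h1 : K577.LatIdeal.IsGen I g' := fun x => by
    obtain ⟨τ, h2, h3⟩ := K484.CocIdeal.exists_stalk_eq hE x
    exact ⟨τ, h3, h2⟩
  exact hasCoc_congr ht (h1.lat_eq hg)

/-- A module with a generator over `U` has a cocycle consisting of units over `U`. -/
theorem exists_coc_unitAt {M : X.Modules} (hM : PicF.IsInvertible M) {U : X.Opens} {t : Γ(M, U)}
    (ht : Groth.Agent.Fdesc.LocGen.IsGen t) :
    ∃ m : X → (X.functionField)ˣ, HasCoc M (fun x => (m x : X.functionField)) ∧ ∀ x ∈ U, m x ∈ unitR x := by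
  obtain ⟨a, ha⟩ := exists_hasCoc hM
  by_cases hne : (U : Set X).Nonempty
  swap
  · obtain ⟨g, rfl⟩ := exists_units ha
    exact ⟨g, ha, fun x hx => absurd ⟨x, hx⟩ hne⟩
  obtain ⟨v, hv⟩ := hne
  have hηU : genericPoint X ∈ U := gen_mem hv
  obtain ⟨h0, V, hxV, e, he, h⟩ := id ha
  have hη : ∀ x, genericPoint X ∈ V x := fun x => gen_mem (hxV x)
  obtain ⟨r, hr, hrt⟩ := ((he (genericPoint X)).res (inf_le_right : U ⊓ V (genericPoint X) ≤ V (genericPoint X))).exists_unit
    (ht.res (inf_le_left : U ⊓ V (genericPoint X) ≤ U))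
  have hr0 : ff (U ⊓ V (genericPoint X)) ⟨hηU, hη _⟩ r ≠ 0 := (hr.map _).ne_zero
  set c : X.functionField := (ff (U ⊓ V (genericPoint X)) ⟨hηU, hη _⟩ r * a (genericPoint X))⁻¹ with hc
  have hc0 : c ≠ 0 := inv_ne_zero (mul_ne_zero hr0 (h0 _))
  refine ⟨fun x => Units.mk0 (c * a x) (mul_ne_zero hc0 (h0 x)), K484.CocIdeal.hasCoc_const ha hc0, fun x hx => ?_⟩
  rw [mem_unitR_iff_unitAt]
  obtain ⟨w, hw, hwt⟩ := (ht.res (inf_le_right : V x ⊓ U ≤ U)).exists_unit
    ((he x).res (inf_le_left : V x ⊓ U ≤ V x))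
  refine ⟨V x ⊓ U, ⟨hxV x, hx⟩, ⟨hη x, hηU⟩, w, hw, ?_⟩
  change _ = c * a x
  obtain ⟨g, hηg, hg, hag⟩ := h x (genericPoint X)
  -- compare on the intersection of everything
  have k1 : V x ⊓ U ⊓ V (genericPoint X) ≤ V x ⊓ U := inf_le_left
  have k2 : V x ⊓ U ⊓ V (genericPoint X) ≤ U ⊓ V (genericPoint X) :=
    le_inf (inf_le_left.trans inf_le_right) inf_le_right
  have k3 : V x ⊓ U ⊓ V (genericPoint X) ≤ V x ⊓ V (genericPoint X) :=
    le_inf (inf_le_left.trans inf_le_left) inf_le_right
  have h1 := congrArg (res M k1) hwt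
  have h2 := congrArg (res M k2) hrt
  have h3 := congrArg (res M k3) hg
  simp only [res_smul, res_res] at h1 h2 h3
  have h4 : ores k1 w * ores k2 r = ores k3 g :=
    ((he _).res (inf_le_right : V x ⊓ U ⊓ V (genericPoint X) ≤ V (genericPoint X))).ext (by
      rw [← h3, h1, h2, smul_smul])
  have hη3 : genericPoint X ∈ V x ⊓ U ⊓ V (genericPoint X) := ⟨⟨hη x, hηU⟩, hη _⟩
  have h5 := congrArg (ff (V x ⊓ U ⊓ V (genericPoint X)) hη3) h4
  rw [map_mul, ff_ores, ff_ores, ff_ores] at h5
  rw [hag, ← h5, hc]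
  have := h0 (genericPoint X)
  field_simp

section adj

variable {Y : Scheme.{u}} [IsIntegral Y] (μ : Y ⟶ X) (hη : μ (genericPoint Y) = genericPoint X)

/-- Pullback of families of rational functions. -/
noncomputable def pb (m : X → (X.functionField)ˣ) : Y → (Y.functionField)ˣ :=
  fun y => Units.map (K515.FF.fm μ hη).toMonoidHom (m (μ y))

theorem coe_pb (m : X → (X.functionField)ˣ) (y : Y) :
    (pb μ hη m y : Y.functionField) = K515.FF.fm μ hη (m (μ y)) := rfl

theorem hasCoc_pb {M : X.Modules} {m : X → (X.functionField)ˣ} (h : HasCoc M (fun x => (m x : X.functionField))) :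
    HasCoc ((Scheme.Modules.pullback μ).obj M) (fun y => (pb μ hη m y : Y.functionField)) :=
  K515.FF.hasCoc_pullback μ hη h

theorem pb_mem_unitR {m : X → (X.functionField)ˣ} {y : Y} (h : m (μ y) ∈ unitR (μ y)) : pb μ hη m y ∈ unitR y := by
  rw [mem_unitR_iff_unitAt] at h ⊢
  exact K515.FF.fm_unitAt μ hη h

theorem hasCoc_mul {L M : X.Modules} {g g' : X → (X.functionField)ˣ}
    (h : HasCoc L (fun x => (g x : X.functionField))) (h' : HasCoc M (fun x => (g' x : X.functionField))) :
    HasCoc (CohB1.tensorMod L M) (fun x => ((g * g') x : X.functionField)) := by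
  have := hasCoc_tensor h h'
  simpa only [Pi.mul_apply, Units.val_mul] using this

/-- If `N ⊗ J ≅ μ^* M`, then `N` has the cocycle `μ^* m / j`. -/
theorem hasCoc_adj {M : X.Modules} {N : Y.Modules} (hN : PicF.IsInvertible N) {J : Y.IdealSheafData}
    (hJ : BlowUp.IsEffCartierIdeal J)
    (e : Nonempty (CohB1.tensorMod N (ClSub.idealMod J) ≅ (Scheme.Modules.pullback μ).obj M))
    {m : X → (X.functionField)ˣ} (hm : HasCoc M (fun x => (m x : X.functionField)))
    {j : Y → (Y.functionField)ˣ} (hj : K577.LatIdeal.IsGen J j) :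
    HasCoc N (fun y => ((pb μ hη m / j) y : Y.functionField)) := by
  obtain ⟨n, -, hn, -⟩ := exists_lat hN
  obtain ⟨c, hc0, hc⟩ := K515.FF.exists_const_of_nonempty_iso (hasCoc_mul hn (hasCoc_idealMod hJ hj))
    (hasCoc_pb μ hη hm) e
  refine hasCoc_change (K484.CocIdeal.hasCoc_const hn hc0) fun y => ?_
  have h1 := unitAt_inv (hc y)
  rw [inv_div] at h1
  refine K515.FF.unitAt_congr h1 ?_
  rw [Pi.mul_apply, Units.val_mul, Pi.div_apply, Units.val_div_eq_div_val]
  have := (n y).ne_zero
  have := (j y).ne_zero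
  field_simp

end adj

end K680.LatCoc
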