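import Groth.Agent.AdjLin.K680.PMv
import Groth.Agent.AdjLin.K699.Conn
import Groth.Agent.AdjLin.K134.PJac

/-!
# The end nodes of `K633.Fuj`

* `nEnd (C : Ctx p n L) : NEnd p n L`;
* `nFin (C : Ctx p n L) (hG : NVanG p n L) : NFin p n L`.
-/

set_option autoImplicit false
universe u
open CategoryTheory CategoryTheory.Limits AlgebraicGeometry TopologicalSpace Opposite

namespace K680.PEnd

open Groth.Agent K633.Fuj Groth.Agent.Divis.CartierBasic K680.PMv

variable {k : Type u} [Field k] {X : Scheme.{u}} {p : X ⟶ Spec (CommRingCat.of k)} {n : ℕ} {L : X.Modules}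

theorem isInvertible_tensorPow {Z : Scheme.{u}} {A : Z.Modules} (hA : PicF.IsInvertible A) (l : ℕ) :
    PicF.IsInvertible (CohB1.tensorPow A l) :=
  (Fdesc.LocGen.isInvertible_iff _).2 fun x => by
    obtain ⟨U, e, hx, he⟩ := (Fdesc.LocGen.isInvertible_iff A).1 hA x
    exact ⟨U, Fdesc.LocGen.pow e l, hx, he.pow l⟩

/-- **END** -/
theorem nEnd (C : Ctx p n L) : NEnd p n L := by
  intro M x hx ω ω' hω hω' e l he hec ⟨i₀, hi₀, hei₀⟩ hH
  obtain ⟨h1, h2, h3, h4, h5⟩ := K134.PJac.inst C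
  have h6 := relDim C M
  have h7 := isProper_μ C M
  have h8 := isProper M.proj
  obtain ⟨U, -, hxU, -, hcen⟩ := K699.Conn.exists_nbhd M x ⊤ trivial
  refine K680.End.exists_gen (fun z => K134.PJac.isIntegrallyClosed C z) M.μ M.bir (isInvertible_topDiff p hω)
    (isInvertible_topDiff (M.μ ≫ p) hω') (isInvertible_tensorPow C.ample.1 l) (isEff_mon M e)
    (isEff_J C M) (fun V _ y hy => K134.JacCart.notMem_support_of_isIso M.μ V y hy) (jacIso C M hω hω') hH x hx U hxU
    (fun y hyU hyx => ?_) ⟨M.gp i₀, hi₀, fun hle => ?_⟩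
  · refine K699.NcPts.stalkIdeal_le_prod (K699.Conn.isEff_E M) M.inj M.J y e (fun i hi => ?_)
    have hi1 := hcen i y hi hyU
    have hi2 := he i hi1
    have hi3 : e i ≠ M.A i := by
      intro h
      have hcx := hec i hi1 h
      have h9 : M.c i ⤳ M.μ y := (K699.Conn.gp_specializes M hi).map M.μ.continuous
      rw [hcx] at h9
      exact hyx (h9.mem_closed hx (Set.mem_singleton x))
    refine (le_of_eq (K699.Conn.stalkIdeal_J C M i)).trans (Ideal.pow_le_pow_right ?_)
    omega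
  · have := K699.Conn.isDVR_gp M i₀
    obtain ⟨ϖ, hϖ⟩ := IsDiscreteValuationRing.exists_irreducible (M.Y.presheaf.stalk (M.gp i₀))
    have hm := hϖ.maximalIdeal_eq
    have h9 := (K699.Conn.stalkIdeal_J C M i₀).symm.le.trans (hle.trans (K699.Conn.stalkIdeal_mon_le M e i₀))
    rw [hm, Ideal.span_singleton_pow, Ideal.span_singleton_pow, Ideal.span_singleton_le_span_singleton,
      pow_dvd_pow_iff hϖ.ne_zero hϖ.not_isUnit, hei₀] at h9
    have h10 : M.A i₀ = 1 + ord M.J (M.gp i₀) := rfl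
    omega

/-- **FIN** -/
theorem nFin (C : Ctx p n L) (hG : NVanG p n L) : NFin p n L := by
  intro M B x hx hB hnn hcen ⟨i₀, hi₀, hld₀⟩ ω hω l hl
  obtain ⟨h1, h2, h3, h4, h5⟩ := K134.PJac.inst C
  have h6 := relDim C M
  have h8 := isProper M.proj
  obtain ⟨ω', hω'⟩ := exists_topDiff (n := n) (M.μ ≫ p)
  have hld : ∀ i, B.ld M i = M.A i - B.o M i := fun i => rfl
  refine nEnd C M x hx ω ω' hω hω' (fun i => ⌊B.o M i⌋₊) l (fun i hi => ?_) (fun i hi h => ?_) ⟨i₀, hi₀, ?_⟩
    (hG M B hB _ (fun i => rfl) ω' hω' l hl 1 le_rfl)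
  · have h9 := hnn i hi
    rw [hld] at h9
    exact Nat.floor_le_of_le (by linarith)
  · refine hcen i hi (le_antisymm ?_ (hnn i hi))
    have h9 : (M.A i : ℚ) ≤ B.o M i := by
      have h10 : (⌊B.o M i⌋₊ : ℚ) = M.A i := by exact_mod_cast h
      rw [← h10]
      refine Nat.floor_le ?_
      exact Finset.sum_nonneg fun j _ => mul_nonneg (B.nonneg j) (Nat.cast_nonneg _)
    rw [hld]
    linarith
  · rw [hld] at hld₀
    have h9 : B.o M i₀ = M.A i₀ := by linarith
    change ⌊B.o M i₀⌋₊ = _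
    rw [h9, Nat.floor_natCast]

end K680.PEnd
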